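import Groth.Agent.WittUnip.Span

/-!
Natural characters on the group-like elements of a commutative cocommutative coordinate algebra over a field are
evaluations at points.
-/

set_option autoImplicit false
set_option backward.isDefEq.respectTransparency false
set_option backward.isDefEq.respectTransparency.types false
set_option linter.style.haveILetI false
set_option linter.unusedSectionVars false

universe u

open TensorProduct WithConv
open Groth.Agent.Comod Groth.Agent.MilnorMoore

noncomputable section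

namespace Groth.Agent.GmDD

/-- The map out of a tensor product of two algebras. -/
abbrev pl {k B R T : Type u} [CommRing k] [CommRing B] [Algebra k B] [CommRing R] [Algebra k R] [CommRing T]
    [Algebra k T] (φ : R →ₐ[k] T) (x : B →ₐ[k] T) : R ⊗[k] B →ₐ[k] T :=
  Algebra.TensorProduct.lift φ x fun _ _ => .all _ _

variable {k : Type u} [Field k] {A : Type u} [CommRing A] [HopfAlgebra k A]

/-- Value of an element of `R ⊗ A` at a point. -/
abbrev at' {R T : Type u} [CommRing R] [Algebra k R] [CommRing T] [Algebra k T] (φ : R →ₐ[k] T) (x : A →ₐ[k] T) :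
    R ⊗[k] A →ₐ[k] T :=
  Algebra.TensorProduct.lift φ x fun _ _ => .all _ _

/-- Base change of coefficients. -/
abbrev bc {R T : Type u} [CommRing R] [Algebra k R] [CommRing T] [Algebra k T] (σ : R →ₐ[k] T) :
    R ⊗[k] A →ₐ[k] T ⊗[k] A :=
  Algebra.TensorProduct.map σ (AlgHom.id k A)

variable {R : Type u} [CommRing R] [Algebra k R]

/-- Group-like elements, in terms of points. -/
structure IsGL (f : R ⊗[k] A) : Prop where
  one : ∀ (T : Type u) [CommRing T] [Algebra k T] (φ : R →ₐ[k] T),
    at' φ (1 : WithConv (A →ₐ[k] T)).ofConv f = 1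
  mul : ∀ (T : Type u) [CommRing T] [Algebra k T] (φ : R →ₐ[k] T) (x y : WithConv (A →ₐ[k] T)),
    at' φ (x * y).ofConv f = at' φ x.ofConv f * at' φ y.ofConv f

theorem at'_bc {S T : Type u} [CommRing S] [Algebra k S] [CommRing T] [Algebra k T] (σ : R →ₐ[k] S) (φ : S →ₐ[k] T)
    (x : A →ₐ[k] T) (f : R ⊗[k] A) : at' φ x (bc σ f) = at' (φ.comp σ) x f := by
  induction f using TensorProduct.induction_on with
  | zero => simp
  | tmul r a => simp [at', bc]
  | add p q hp hq => simp only [map_add, hp, hq]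

theorem IsGL.map {S : Type u} [CommRing S] [Algebra k S] {f : R ⊗[k] A} (hf : IsGL f) (σ : R →ₐ[k] S) :
    IsGL (bc σ f) where
  one T _ _ φ := by rw [at'_bc]; exact hf.one T _
  mul T _ _ φ x y := by simp only [at'_bc]; exact hf.mul T _ x y

theorem IsGL.mul' {f g : R ⊗[k] A} (hf : IsGL f) (hg : IsGL g) : IsGL (f * g) where
  one T _ _ φ := by rw [map_mul, hf.one, hg.one, _root_.one_mul]
  mul T _ _ φ x y := by rw [map_mul, hf.mul, hg.mul, map_mul, map_mul, mul_mul_mul_comm]

theorem isGL_one : IsGL (1 : R ⊗[k] A) where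
  one T _ _ φ := map_one _
  mul T _ _ φ x y := by simp only [map_one, _root_.one_mul]

theorem inl_mul_inr : (toConv (Algebra.TensorProduct.includeLeft : A →ₐ[k] A ⊗[k] A) *
    toConv (Algebra.TensorProduct.includeRight : A →ₐ[k] A ⊗[k] A)).ofConv = Bialgebra.comulAlgHom k A := by
  refine AlgHom.ext fun a => ?_
  show (toConv (Algebra.TensorProduct.includeLeft : A →ₐ[k] A ⊗[k] A) *
    toConv (Algebra.TensorProduct.includeRight : A →ₐ[k] A ⊗[k] A)) a = _
  rw [AlgHom.convMul_apply, Bialgebra.comulAlgHom_apply]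
  generalize CoalgebraStruct.comul (R := k) a = t
  induction t using TensorProduct.induction_on with
  | zero => simp
  | tmul x y => simp
  | add p q hp hq => simp only [map_add, hp, hq]

theorem cR_bc {S : Type u} [CommRing S] [Algebra k S] (σ : R →ₐ[k] S) (g : A →ₗ[k] k) (f : R ⊗[k] A) :
    cR g (bc σ f) = σ (cR g f) := by
  induction f using TensorProduct.induction_on with
  | zero => simp
  | tmul r a => simp [bc]
  | add p q hp hq => simp only [map_add, hp, hq]

theorem IsGL.cR_mul {f : R ⊗[k] A} (hf : IsGL f) (g h : CDual k A) :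
    cR (g * h).ofConv f = cR g.ofConv f * cR h.ofConv f := by
  let H : A ⊗[k] A →ₐ[k] R ⊗[k] (A ⊗[k] A) := Algebra.TensorProduct.includeRight
  let iL : WithConv (A →ₐ[k] A ⊗[k] A) := toConv Algebra.TensorProduct.includeLeft
  let iR : WithConv (A →ₐ[k] A ⊗[k] A) := toConv Algebra.TensorProduct.includeRight
  have h0 := hf.mul _ (Algebra.TensorProduct.includeLeft : R →ₐ[k] R ⊗[k] (A ⊗[k] A))
    (toConv (H.comp iL.ofConv)) (toConv (H.comp iR.ofConv))
  have hxy : (toConv (H.comp iL.ofConv) * toConv (H.comp iR.ofConv)).ofConv = H.comp (Bialgebra.comulAlgHom k A) := by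
    rw [← inl_mul_inr]
    exact (AlgHom.comp_convMul_distrib H iL iR).symm
  rw [hxy] at h0
  let Ψ : A ⊗[k] A →ₗ[k] k := LinearMap.mul' k k ∘ₗ TensorProduct.map g.ofConv h.ofConv
  have hl : ∀ t : R ⊗[k] A, cR Ψ (at' (Algebra.TensorProduct.includeLeft : R →ₐ[k] R ⊗[k] (A ⊗[k] A))
      (H.comp (Bialgebra.comulAlgHom k A)) t) = cR (g * h).ofConv t := fun t => by
    induction t using TensorProduct.induction_on with
    | zero => simp
    | tmul r a =>
      simp only [at', Algebra.TensorProduct.lift_tmul, H, AlgHom.comp_apply, Algebra.TensorProduct.includeLeft_apply,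
        Algebra.TensorProduct.includeRight_apply, Algebra.TensorProduct.tmul_mul_tmul, _root_.mul_one, _root_.one_mul,
        Bialgebra.comulAlgHom_apply, cR_tmul]
      rw [LinearMap.convMul_apply]
      rfl
    | add p q hp hq => simp only [map_add, hp, hq]
  have hr : ∀ p q : R ⊗[k] A, cR Ψ (at' (Algebra.TensorProduct.includeLeft : R →ₐ[k] R ⊗[k] (A ⊗[k] A))
      (H.comp iL.ofConv) p * at' (Algebra.TensorProduct.includeLeft : R →ₐ[k] R ⊗[k] (A ⊗[k] A))
      (H.comp iR.ofConv) q) = cR g.ofConv p * cR h.ofConv q := fun p q => by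
    induction p using TensorProduct.induction_on with
    | zero => simp
    | add p p' hp hp' => simp only [map_add, add_mul, hp, hp']
    | tmul r a =>
      induction q using TensorProduct.induction_on with
      | zero => simp
      | add q q' hq hq' => simp only [map_add, mul_add, hq, hq']
      | tmul s b =>
        simp only [at', Algebra.TensorProduct.lift_tmul, H, iL, iR, AlgHom.comp_apply,
          Algebra.TensorProduct.includeLeft_apply, Algebra.TensorProduct.includeRight_apply,
          Algebra.TensorProduct.tmul_mul_tmul, _root_.mul_one, _root_.one_mul, cR_tmul]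
        simp [Ψ, smul_smul, mul_comm (h.ofConv b)]
  have h1 := congrArg (cR Ψ) h0
  simp only at h1
  rwa [hl, hr] at h1

theorem IsGL.cR_one {f : R ⊗[k] A} (hf : IsGL f) : cR (1 : CDual k A).ofConv f = 1 := by
  refine Eq.trans ?_ (hf.one R (AlgHom.id k R))
  clear hf
  induction f using TensorProduct.induction_on with
  | zero => simp
  | tmul r a =>
    simp only [cR_tmul, at', Algebra.TensorProduct.lift_tmul, AlgHom.id_apply]
    show (1 : CDual k A).ofConv a • r = r * algebraMap k R (CoalgebraStruct.counit (R := k) a)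
    rw [Algebra.smul_def, mul_comm]
    rfl
  | add p q hp hq => simp only [map_add, hp, hq]

/-- The algebra map of a group-like element. -/
def Lhom {f : R ⊗[k] A} (hf : IsGL f) : CDual k A →ₐ[k] R :=
  AlgHom.ofLinearMap
    { toFun := fun g => cR g.ofConv f
      map_add' := fun g h => by
        simp only [cR, ofConv_add, LinearMap.lTensor_add, LinearMap.comp_add, LinearMap.add_apply]
      map_smul' := fun c g => by
        simp only [cR, ofConv_smul, LinearMap.lTensor_smul, LinearMap.comp_smul, LinearMap.smul_apply,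
          RingHom.id_apply] }
    hf.cR_one hf.cR_mul

theorem Lhom_apply {f : R ⊗[k] A} (hf : IsGL f) (g : CDual k A) : Lhom hf g = cR g.ofConv f := rfl

variable [Coalgebra.IsCocomm k A] (C : SubC k A)

/-- Elements with coefficients in `C`. -/
abbrev Supp (R : Type u) [CommRing R] [Algebra k R] : Submodule k (R ⊗[k] A) :=
  LinearMap.range (C.D.subtype.lTensor R)

/-- The map out of the dual algebra of a group-like element. -/
def sigQ {f : R ⊗[k] A} (hf : IsGL f) (hC : f ∈ Supp C R) : DQ C →ₐ[k] R :=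
  show (CDual k A ⧸ ann C) →ₐ[k] R from Ideal.Quotient.liftₐ (ann C) (Lhom hf) fun g hg => by
    obtain ⟨t, rfl⟩ := hC
    rw [Lhom_apply]
    clear hf
    induction t using TensorProduct.induction_on with
    | zero => simp
    | tmul r d => simp [hg d d.2]
    | add p q hp hq => simp only [map_add, hp, hq, add_zero]

theorem sigQ_mk {f : R ⊗[k] A} (hf : IsGL f) (hC : f ∈ Supp C R) (g : CDual k A) :
    sigQ C hf hC (mkQ' C g) = cR g.ofConv f := rfl

theorem bc_sigQ {f : R ⊗[k] A} (hf : IsGL f) (hC : f ∈ Supp C R) : bc (sigQ C hf hC) (univ C) = f := by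
  simp only [univ, map_sum, bc, Algebra.TensorProduct.map_tmul, AlgHom.id_apply]
  rw [show (∑ i, sigQ C hf hC (bar C i) ⊗ₜ[k] (Module.finBasis k C.D i : A)) = ∑ i, cR
    ((Module.finBasis k C.D).coord i).exists_extend.choose f ⊗ₜ[k] (Module.finBasis k C.D i : A) from
    Finset.sum_congr rfl fun i _ => rfl]
  obtain ⟨t, rfl⟩ := hC
  clear hf
  induction t using TensorProduct.induction_on with
  | zero => simp
  | tmul r d =>
    simp only [LinearMap.lTensor_tmul, Submodule.coe_subtype, cR_tmul, TensorProduct.smul_tmul]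
    rw [← TensorProduct.tmul_sum]
    refine congrArg (r ⊗ₜ[k] ·) ?_
    have h : ∀ i, ((Module.finBasis k C.D).coord i).exists_extend.choose (d : A) = (Module.finBasis k C.D).repr d i :=
      fun i => LinearMap.congr_fun ((Module.finBasis k C.D).coord i).exists_extend.choose_spec d
    simp only [h]
    have := congrArg C.D.subtype ((Module.finBasis k C.D).sum_repr d)
    rw [map_sum] at this
    simpa using this
  | add p q hp hq => simp only [map_add, TensorProduct.add_tmul, Finset.sum_add_distrib, hp, hq]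

theorem isGL_univ : IsGL (univ C) where
  one T _ _ φ := by
    have e := WittUnip.sum_counit_bar k A C
    rw [← map_one φ, ← e, map_sum φ, univ, map_sum]
    refine Finset.sum_congr rfl fun i _ => ?_
    rw [map_smul, at', Algebra.TensorProduct.lift_tmul, Algebra.smul_def, mul_comm]
    rfl
  mul T _ _ φ x y := by
    let H : DQ C ⊗[k] (A ⊗[k] A) →ₐ[k] T :=
      Algebra.TensorProduct.lift φ (Algebra.TensorProduct.lift x.ofConv y.ofConv fun _ _ => .all _ _)
        fun _ _ => .all _ _
    have e := congrArg H (univ_mul C)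
    rw [map_mul] at e
    have e1 : ∀ t, H (f₁ C t) = at' φ x.ofConv t := fun t => by
      induction t using TensorProduct.induction_on with
      | zero => simp
      | tmul r a => simp [H, f₁, at']
      | add p q hp hq => simp only [map_add, hp, hq]
    have e2 : ∀ t, H (f₂ C t) = at' φ y.ofConv t := fun t => by
      induction t using TensorProduct.induction_on with
      | zero => simp
      | tmul r a => simp [H, f₂, at']
      | add p q hp hq => simp only [map_add, hp, hq]
    have e0 : ∀ t, H (f₀ C t) = at' φ (x * y).ofConv t := fun t => by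
      induction t using TensorProduct.induction_on with
      | zero => simp
      | tmul r a =>
        simp only [H, f₀, at', Algebra.TensorProduct.map_tmul, AlgHom.id_apply, Algebra.TensorProduct.lift_tmul,
          Bialgebra.comulAlgHom_apply]
        exact congrArg (φ r * ·) (AlgHom.convMul_apply x y a).symm
      | add p q hp hq => simp only [map_add, hp, hq]
    rwa [e1, e2, e0, eq_comm] at e

theorem cR_univ (g : CDual k A) : cR g.ofConv (univ C) = mkQ' C g := by
  refine ev_injective C (LinearMap.ext fun d => ?_)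
  rw [ev_mk, univ, map_sum, map_sum, LinearMap.sum_apply]
  conv_rhs => rw [← sum_ev_bar C d, map_sum]
  refine Finset.sum_congr rfl fun i _ => ?_
  rw [cR_tmul, map_smul, map_smul, LinearMap.smul_apply, smul_eq_mul, smul_eq_mul, mul_comm]

theorem univ_mem : univ C ∈ Supp C (DQ C) :=
  Submodule.sum_mem _ fun i _ => ⟨bar C i ⊗ₜ Module.finBasis k C.D i, rfl⟩

theorem bc_mem {S : Type u} [CommRing S] [Algebra k S] (σ : R →ₐ[k] S) {f : R ⊗[k] A} (hf : f ∈ Supp C R) :
    bc σ f ∈ Supp C S := by
  obtain ⟨t, rfl⟩ := hf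
  refine ⟨σ.toLinearMap.rTensor C.D t, ?_⟩
  induction t using TensorProduct.induction_on with
  | zero => simp
  | tmul r d => simp [bc]
  | add p q hp hq => simp only [map_add, hp, hq]

theorem supp_mono {C C' : SubC k A} (h : C.D ≤ C'.D) : Supp C R ≤ Supp C' R := by
  rintro _ ⟨t, rfl⟩
  refine ⟨(Submodule.inclusion h).lTensor R t, ?_⟩
  rw [← LinearMap.lTensor_comp_apply]
  rfl

theorem exists_supp (f : R ⊗[k] A) : ∃ C : SubC k A, f ∈ Supp C R := by
  classical
  obtain ⟨S, rfl⟩ := TensorProduct.exists_finset f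
  obtain ⟨C, hC⟩ := WittUnip.exists_subC_finset k A (S.image Prod.snd)
  exact ⟨C, Submodule.sum_mem _ fun p hp =>
    ⟨p.1 ⊗ₜ ⟨p.2, hC _ (Finset.mem_image_of_mem _ hp)⟩, rfl⟩⟩

theorem exists_subC_le (C C' : SubC k A) (s : Finset A) :
    ∃ E : SubC k A, C.D ≤ E.D ∧ C'.D ≤ E.D ∧ ∀ a ∈ s, a ∈ E.D := by
  classical
  haveI := C.finite
  haveI := C'.finite
  obtain ⟨t, ht⟩ := Module.Finite.iff_fg.1 C.finite
  obtain ⟨t', ht'⟩ := Module.Finite.iff_fg.1 C'.finite
  obtain ⟨E, hE⟩ := WittUnip.exists_subC_finset k A (t ∪ t' ∪ s)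
  exact ⟨E, ht ▸ Submodule.span_le.2 fun a ha => hE a (by simp [Finset.mem_coe.1 ha]),
    ht' ▸ Submodule.span_le.2 fun a ha => hE a (by simp [Finset.mem_coe.1 ha]), fun a ha => hE a (by simp [ha])⟩

section Val

variable {R₀ : Type u} [CommRing R₀] [Algebra k R₀]

variable (R₀) in
/-- The universal group-like element over `R₀`. -/
def fC : (R₀ ⊗[k] DQ C) ⊗[k] A := bc Algebra.TensorProduct.includeRight (univ C)

theorem isGL_fC : IsGL (fC C R₀) := (isGL_univ C).map _

theorem fC_mem : fC C R₀ ∈ Supp C (R₀ ⊗[k] DQ C) := bc_mem C _ (univ_mem C)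

variable (R₀) in
/-- The pairing of `R₀ ⊗ C^*` with `C`. -/
def pairing : R₀ ⊗[k] DQ C →ₗ[k] C.D →ₗ[k] R₀ :=
  TensorProduct.lift (LinearMap.mk₂ k (fun r q => (ev C q).smulRight r)
    (fun _ _ _ => LinearMap.ext fun _ => by simp)
    (fun c _ _ => LinearMap.ext fun _ => by simp only [LinearMap.smulRight_apply, LinearMap.smul_apply]; exact smul_comm _ _ _)
    (fun _ _ _ => LinearMap.ext fun _ => by simp [add_smul])
    (fun c _ _ => LinearMap.ext fun _ => by simp [smul_smul]))

theorem pairing_tmul (r : R₀) (q : DQ C) (a : C.D) : pairing C R₀ (r ⊗ₜ q) a = ev C q a • r := by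
  simp [pairing]

/-- The hypotheses on a natural character of the group-like elements. -/
structure IsVal (V : ∀ (R : Type u) [CommRing R] [Algebra k R], (R₀ →ₐ[k] R) → R ⊗[k] A → R) : Prop where
  nat : ∀ (R S : Type u) [CommRing R] [Algebra k R] [CommRing S] [Algebra k S] (σ : R →ₐ[k] S) (i : R₀ →ₐ[k] R)
    (f : R ⊗[k] A), IsGL f → V S (σ.comp i) (bc σ f) = σ (V R i f)
  one : ∀ (R : Type u) [CommRing R] [Algebra k R] (i : R₀ →ₐ[k] R), V R i 1 = 1
  mul : ∀ (R : Type u) [CommRing R] [Algebra k R] (i : R₀ →ₐ[k] R) (f g : R ⊗[k] A), IsGL f → IsGL g →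
    V R i (f * g) = V R i f * V R i g

variable {V : ∀ (R : Type u) [CommRing R] [Algebra k R], (R₀ →ₐ[k] R) → R ⊗[k] A → R}

theorem val_eq (hV : IsVal V) (i : R₀ →ₐ[k] R) {f : R ⊗[k] A} (hf : IsGL f) (hC : f ∈ Supp C R) :
    V R i f = pl i (sigQ C hf hC) (V _ Algebra.TensorProduct.includeLeft (fC C R₀)) := by
  let σ : R₀ ⊗[k] DQ C →ₐ[k] R := pl i (sigQ C hf hC)
  have e1 : σ.comp Algebra.TensorProduct.includeLeft = i := AlgHom.ext fun r => by simp [σ, pl]
  have e2 : bc σ (fC C R₀) = f := by
    conv_rhs => rw [← bc_sigQ C hf hC]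
    rw [fC]
    generalize univ C = t
    induction t using TensorProduct.induction_on with
    | zero => simp
    | tmul r a => simp [σ, bc, pl]
    | add p q hp hq => simp only [map_add, hp, hq]
  have e := hV.nat _ _ σ Algebra.TensorProduct.includeLeft (fC C R₀) (isGL_fC C)
  rwa [e1, e2] at e

/-- The functional on a subcoalgebra. -/
def uC (V : ∀ (R : Type u) [CommRing R] [Algebra k R], (R₀ →ₐ[k] R) → R ⊗[k] A → R) : C.D →ₗ[k] R₀ :=
  pairing C R₀ (V _ Algebra.TensorProduct.includeLeft (fC C R₀))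

theorem uC_of_le (hV : IsVal V) {C C' : SubC k A} (h : C.D ≤ C'.D) (a : C.D) :
    uC C V a = uC C' V ⟨a, h a.2⟩ := by
  have hm := supp_mono (R := R₀ ⊗[k] DQ C) h (fC_mem C)
  rw [uC, val_eq C' hV _ (isGL_fC C) hm, uC]
  generalize V _ Algebra.TensorProduct.includeLeft (fC C' R₀) = t
  induction t using TensorProduct.induction_on with
  | zero => simp
  | add p q hp hq => simp only [map_add, LinearMap.add_apply, hp, hq]
  | tmul r q =>
    obtain ⟨g, rfl⟩ := mkQ'_surjective C' q
    rw [pl, Algebra.TensorProduct.lift_tmul, sigQ_mk, fC, cR_bc, cR_univ]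
    simp [pairing_tmul, ev_mk]

/-- The functional of a natural character. -/
def uFun (hV : IsVal V) : A →ₗ[k] R₀ where
  toFun a := uC (exists_subC (k := k) a).choose V ⟨a, (exists_subC a).choose_spec⟩
  map_add' a b := by
    obtain ⟨E, h1, h2, h3⟩ := exists_subC_le (exists_subC (k := k) a).choose (exists_subC (k := k) b).choose {a + b}
    obtain ⟨E', h4, h5, -⟩ := exists_subC_le E (exists_subC (k := k) (a + b)).choose {a}
    rw [uC_of_le hV (h1.trans h4), uC_of_le hV (h2.trans h4), uC_of_le hV h5, ← map_add]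
    rfl
  map_smul' c a := by
    obtain ⟨E, h1, h2, -⟩ := exists_subC_le (exists_subC (k := k) a).choose (exists_subC (k := k) (c • a)).choose {a}
    rw [uC_of_le hV h1, uC_of_le hV h2, RingHom.id_apply, ← map_smul]
    rfl

theorem uFun_eq (hV : IsVal V) (a : C.D) : uFun hV a = uC C V a := by
  obtain ⟨E, h1, h2, -⟩ := exists_subC_le C (exists_subC (a : A)).choose {(a : A)}
  rw [uC_of_le hV h1 a]
  exact uC_of_le hV h2 ⟨(a : A), (exists_subC (a : A)).choose_spec⟩

/-- The value of a group-like element at a functional. -/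
abbrev eVal (i : R₀ →ₐ[k] R) (u : A →ₗ[k] R₀) : R ⊗[k] A →ₗ[k] R :=
  LinearMap.mul' k R ∘ₗ (i.toLinearMap ∘ₗ u).lTensor R

theorem val_eq_eVal (hV : IsVal V) (i : R₀ →ₐ[k] R) {f : R ⊗[k] A} (hf : IsGL f) :
    V R i f = eVal i (uFun hV) f := by
  obtain ⟨C, hC⟩ := exists_supp f
  rw [val_eq C hV i hf hC]
  obtain ⟨t, rfl⟩ := id hC
  have hu : uFun hV ∘ₗ C.D.subtype = uC C V := LinearMap.ext fun a => uFun_eq C hV a
  rw [eVal, LinearMap.comp_apply, ← LinearMap.lTensor_comp_apply, LinearMap.comp_assoc, hu, uC]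
  generalize V _ Algebra.TensorProduct.includeLeft (fC C R₀) = v
  induction v using TensorProduct.induction_on with
  | zero => simp
  | add p q hp hq => simp only [map_add, LinearMap.comp_add, LinearMap.lTensor_add, LinearMap.add_apply, hp, hq]
  | tmul r q =>
    obtain ⟨g, rfl⟩ := mkQ'_surjective C q
    rw [pl, Algebra.TensorProduct.lift_tmul, sigQ_mk]
    clear hf hC
    induction t using TensorProduct.induction_on with
    | zero => simp
    | add p q hp hq => simp only [map_add, mul_add, hp, hq]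
    | tmul s d =>
      simp [pairing_tmul, ev_mk, mul_comm]

theorem uFun_one (hV : IsVal V) : uFun hV 1 = 1 := by
  have e := val_eq_eVal hV (AlgHom.id k R₀) (isGL_one (R := R₀) (A := A))
  rw [hV.one, Algebra.TensorProduct.one_def] at e
  simpa using e.symm

theorem uFun_mul (hV : IsVal V) (x y : A) : uFun hV (x * y) = uFun hV x * uFun hV y := by
  obtain ⟨C, hx⟩ := exists_subC (k := k) x
  obtain ⟨C', hy⟩ := exists_subC (k := k) y
  let i0 : R₀ →ₐ[k] R₀ ⊗[k] (DQ C ⊗[k] DQ C') := Algebra.TensorProduct.includeLeft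
  let a1 : DQ C →ₐ[k] R₀ ⊗[k] (DQ C ⊗[k] DQ C') :=
    (Algebra.TensorProduct.includeRight (R := k) (A := R₀)).comp Algebra.TensorProduct.includeLeft
  let a2 : DQ C' →ₐ[k] R₀ ⊗[k] (DQ C ⊗[k] DQ C') :=
    (Algebra.TensorProduct.includeRight (R := k) (A := R₀)).comp Algebra.TensorProduct.includeRight
  have h1 := (isGL_univ C).map a1
  have h2 := (isGL_univ C').map a2
  have e := hV.mul _ i0 _ _ h1 h2
  rw [val_eq_eVal hV i0 h1, val_eq_eVal hV i0 h2, val_eq_eVal hV i0 (h1.mul' h2)] at e
  let Ψ : R₀ ⊗[k] (DQ C ⊗[k] DQ C') →ₗ[k] R₀ := (TensorProduct.rid k R₀).toLinearMap ∘ₗ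
    (LinearMap.mul' k k ∘ₗ TensorProduct.map ((ev C).flip ⟨x, hx⟩) ((ev C').flip ⟨y, hy⟩)).lTensor R₀
  have e' := congrArg Ψ e
  simp only [univ, map_sum, Finset.sum_mul_sum, bc, a1, a2, i0, Ψ, eVal, LinearMap.comp_apply,
    Algebra.TensorProduct.map_tmul, AlgHom.id_apply, AlgHom.comp_apply, Algebra.TensorProduct.includeRight_apply,
    Algebra.TensorProduct.includeLeft_apply, Algebra.TensorProduct.tmul_mul_tmul, LinearMap.lTensor_tmul,
    LinearMap.mul'_apply, AlgHom.toLinearMap_apply, _root_.one_mul, _root_.mul_one, TensorProduct.map_tmul,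
    LinearEquiv.coe_coe, TensorProduct.rid_tmul, LinearMap.flip_apply] at e'
  have ex : x = ∑ i, ev C (bar C i) ⟨x, hx⟩ • (Module.finBasis k C.D i : A) := (sum_ev_bar C ⟨x, hx⟩).symm
  have ey : y = ∑ i, ev C' (bar C' i) ⟨y, hy⟩ • (Module.finBasis k C'.D i : A) := (sum_ev_bar C' ⟨y, hy⟩).symm
  conv_lhs => rw [ex, ey]
  conv_rhs => rw [ex, ey]
  simpa only [Finset.sum_mul_sum, map_sum, smul_mul_smul_comm, map_smul] using e'

/-- The point of a natural character. -/
def point (hV : IsVal V) : A →ₐ[k] R₀ := AlgHom.ofLinearMap (uFun hV) (uFun_one hV) (uFun_mul hV)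

theorem eVal_eq_at' (i : R₀ →ₐ[k] R) (x : A →ₐ[k] R₀) (f : R ⊗[k] A) :
    eVal i x.toLinearMap f = at' (AlgHom.id k R) (i.comp x) f := by
  induction f using TensorProduct.induction_on with
  | zero => simp
  | tmul r a => simp [eVal, at']
  | add p q hp hq => simp only [map_add, hp, hq]

/-- A natural character is the evaluation at a point. -/
theorem exists_point (hV : IsVal V) : ∃ x : A →ₐ[k] R₀, ∀ (R : Type u) [CommRing R] [Algebra k R]
    (i : R₀ →ₐ[k] R) (f : R ⊗[k] A), IsGL f → V R i f = at' (AlgHom.id k R) (i.comp x) f :=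
  ⟨point hV, fun R _ _ i f hf => (val_eq_eVal hV i hf).trans (eVal_eq_at' i (point hV) f)⟩

/-- Evaluation at the universal elements separates points. -/
theorem point_ext {x y : A →ₐ[k] R₀}
    (h : ∀ C : SubC k A, at' (AlgHom.id k _) (Algebra.TensorProduct.includeLeft.comp x) (fC C R₀) =
      at' (AlgHom.id k _) (Algebra.TensorProduct.includeLeft.comp y) (fC C R₀)) : x = y := by
  refine AlgHom.ext fun a => ?_
  obtain ⟨C, ha⟩ := exists_subC (k := k) a
  have key : ∀ z : A →ₐ[k] R₀, pairing C R₀ (at' (AlgHom.id k _) (Algebra.TensorProduct.includeLeft.comp z)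
      (fC C R₀)) ⟨a, ha⟩ = z a := fun z => by
    simp only [fC, univ, map_sum, bc, at', Algebra.TensorProduct.map_tmul, AlgHom.id_apply,
      Algebra.TensorProduct.lift_tmul, AlgHom.comp_apply, Algebra.TensorProduct.includeRight_apply,
      Algebra.TensorProduct.includeLeft_apply, Algebra.TensorProduct.tmul_mul_tmul, _root_.one_mul, _root_.mul_one,
      LinearMap.sum_apply, pairing_tmul]
    conv_rhs => rw [show a = ((⟨a, ha⟩ : C.D) : A) from rfl, ← sum_ev_bar C ⟨a, ha⟩]
    simp only [map_sum, map_smul]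
  rw [← key x, ← key y, h C]

end Val

end Groth.Agent.GmDD
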