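import Groth.Agent.GmDD.Main
import Groth.Agent.GmDD.Restrict
import Mathlib.GroupTheory.FiniteAbelian.Basic
import Mathlib.GroupTheory.Index
import Mathlib.AlgebraicGeometry.Morphisms.ClosedImmersion

/-!
Restriction of characters to a closed subgroup.
-/

set_option autoImplicit false
set_option backward.isDefEq.respectTransparency false
set_option backward.isDefEq.respectTransparency.types false
set_option linter.style.haveILetI false
set_option linter.unusedSectionVars false
set_option synthInstance.maxHeartbeats 400000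

universe u

open CategoryTheory CategoryTheory.Limits AlgebraicGeometry Opposite
open MonoidalCategory CartesianMonoidalCategory
open scoped MonObj TensorProduct
open WithConv
open Groth.Agent.GaExt Groth.Agent.MilnorMoore

noncomputable section

namespace Groth.Agent.GmDD

variable {k : Type u} [Field k]

theorem exists_Omap {R S : Type u} [CommRing R] [Algebra k R] [CommRing S] [Algebra k S] (c : O k S ⟶ O k R) :
    ∃ σ : R →ₐ[k] S, Omap σ = c := by
  let σ : R →ₐ[k] S :=
    { (RingEquiv.ofBijective (fn k S) fn_bijective).symm.toRingHom.comp (pullA c).toRingHom with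
      commutes' := fun r => fn_bijective.1 (by
        refine ((RingEquiv.ofBijective (fn k S) fn_bijective).apply_symm_apply _).trans ?_
        show pullA c (algebraMap k R r) = _
        rw [AlgHom.commutes, ← fnA_apply, AlgHom.commutes]) }
  exact ⟨σ, hom_ext_fn fun a => (fn_map σ a).trans
    ((RingEquiv.ofBijective (fn k S) fn_bijective).apply_symm_apply _)⟩

/-- The structure morphism to the affine base object. -/
def cpt (Y : Over (Spec (CommRingCat.of k))) : Y ⟶ O k k := rmap Y ≫ Omap (Algebra.ofId k (GA Y))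

theorem hom_k_ext {Y : Over (Spec (CommRingCat.of k))} (c c' : Y ⟶ O k k) : c = c' :=
  hom_ext_fn fun a => RingHom.congr_fun ((str_comp c).trans (str_comp c').symm) a

theorem uu_nsmul {W : Over (Spec (CommRingCat.of k))}
    (s : BigSite.sect Scheme.fppfPrecoverage (CGrpSh2.Gm Scheme.fppfPrecoverage (Spec (CommRingCat.of k))) W) :
    ∀ n : ℕ, (uu (n • s) : Γ(W.left, ⊤)) = (uu s : Γ(W.left, ⊤)) ^ n
  | 0 => by rw [zero_smul, uu_zero, pow_zero]
  | n + 1 => by rw [succ_nsmul, uu_add, uu_nsmul s n, pow_succ]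

section

variable {A : Type u} [CommRing A] [HopfAlgebra k A] {G : Over (Spec (CommRingCat.of k))} [GrpObj G]
  [IsCommMonObj G] (E : Coord A G)

theorem pt_injective {C : Type u} [CommRing C] [Algebra k C] {x y : A →ₐ[k] C} (h : pt E x = pt E y) : x = y := by
  refine AlgHom.ext fun a => fnA_injective (k := k) ?_
  have e := congrArg (fun g => gHom E g a) h
  simp only [gHom_pt, AlgHom.comp_apply] at e
  exact e

/-- The value of a global character at a point. -/
abbrev glv (χ : CGrpSh.pts Scheme.fppfPrecoverage G ⟶ CGrpSh2.Gm Scheme.fppfPrecoverage (Spec (CommRingCat.of k)))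
    {Y : Over (Spec (CommRingCat.of k))} (g : Y ⟶ G) : Γ(Y.left, ⊤) :=
  (uu (GaExt.app χ (gS g)) : Γ(Y.left, ⊤))

theorem char_ext {χ χ' : CGrpSh.pts Scheme.fppfPrecoverage G ⟶
      CGrpSh2.Gm Scheme.fppfPrecoverage (Spec (CommRingCat.of k))}
    (h : ∀ {Y : Over (Spec (CommRingCat.of k))} (g : Y ⟶ G), glv χ g = glv χ' g) : χ = χ' :=
  Sheaf.hom_ext (NatTrans.ext (funext fun T => AddCommGrpCat.ext fun s => by
    obtain ⟨g, rfl⟩ := gS_surjective (Y := T.unop) s
    exact uu_injective (h g)))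

theorem val_one_tmul (a : A) {Y : Over (Spec (CommRingCat.of k))} (c : Y ⟶ O k k) (g : Y ⟶ G) :
    val E ((1 : k) ⊗ₜ[k] a) c g = gHom E g a := by
  simp [val, at']

theorem exists_glob (χ : CGrpSh.pts Scheme.fppfPrecoverage G ⟶
      CGrpSh2.Gm Scheme.fppfPrecoverage (Spec (CommRingCat.of k))) :
    ∃ a : A, IsGL ((1 : k) ⊗ₜ[k] a) ∧ ∀ {Y : Over (Spec (CommRingCat.of k))} (g : Y ⟶ G),
      glv χ g = gHom E g a := by
  let d := ((QuotSh.J Scheme.fppfPrecoverage (Spec (CommRingCat.of k))).overPullback AddCommGrpCat.{u + 1}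
    (O k k)).map χ
  obtain ⟨f, hf, hd⟩ := exists_char E d
  obtain ⟨a, rfl⟩ : ∃ a : A, (1 : k) ⊗ₜ[k] a = f :=
    ⟨TensorProduct.lid k A f, (TensorProduct.lid k A).symm_apply_apply f⟩
  refine ⟨a, hf, fun {Y} g => ?_⟩
  show (uu (ov d (cpt Y) (gS g)) : Γ(Y.left, ⊤)) = _
  rw [hd, charHom_app, val_one_tmul]

theorem exists_of_isGL {a : A} (ha : IsGL ((1 : k) ⊗ₜ[k] a)) :
    ∃ χ : CGrpSh.pts Scheme.fppfPrecoverage G ⟶ CGrpSh2.Gm Scheme.fppfPrecoverage (Spec (CommRingCat.of k)),
      ∀ {Y : Over (Spec (CommRingCat.of k))} (g : Y ⟶ G), glv χ g = gHom E g a := by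
  refine ⟨⟨{ app := fun T => AddCommGrpCat.ofHom (ov (charHom E _ ha) (cpt T.unop))
             naturality := fun T T' q => AddCommGrpCat.ext fun s => ?_ }⟩, fun {Y} g => ?_⟩
  · have h := over_app_res (charHom E _ ha) q.unop (cpt T.unop) s
    rw [hom_k_ext (q.unop ≫ cpt T.unop) (cpt T'.unop)] at h
    exact h
  · show (uu (ov (charHom E _ ha) (cpt Y) (gS g)) : Γ(Y.left, ⊤)) = _
    rw [charHom_app, val_one_tmul]

theorem glv_add (χ χ' : CGrpSh.pts Scheme.fppfPrecoverage G ⟶
      CGrpSh2.Gm Scheme.fppfPrecoverage (Spec (CommRingCat.of k)))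
    {Y : Over (Spec (CommRingCat.of k))} (g : Y ⟶ G) : glv (χ + χ') g = glv χ g * glv χ' g :=
  uu_add _ _

theorem glv_nsmul (χ : CGrpSh.pts Scheme.fppfPrecoverage G ⟶
      CGrpSh2.Gm Scheme.fppfPrecoverage (Spec (CommRingCat.of k)))
    {Y : Over (Spec (CommRingCat.of k))} (g : Y ⟶ G) : ∀ n : ℕ, glv (n • χ) g = glv χ g ^ n
  | 0 => by rw [zero_smul, pow_zero]; exact uu_zero
  | n + 1 => by rw [succ_nsmul, glv_add, glv_nsmul χ g n, pow_succ]

variable [Coalgebra.IsCocomm k A]

include E in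
theorem fg_char [IsNoetherianRing A] :
    AddGroup.FG (CGrpSh.pts Scheme.fppfPrecoverage G ⟶
      CGrpSh2.Gm Scheme.fppfPrecoverage (Spec (CommRingCat.of k))) := by
  haveI := fg_groupLike (k := k) (B := A)
  choose Φ hΦ using fun m : GroupLike k A => exists_of_isGL E (isGL_of_isGroupLikeElem m.2)
  let Ψ : Additive (GroupLike k A) →+ (CGrpSh.pts Scheme.fppfPrecoverage G ⟶
      CGrpSh2.Gm Scheme.fppfPrecoverage (Spec (CommRingCat.of k))) :=
    AddMonoidHom.mk' (fun m => Φ m.toMul) fun m m' => char_ext fun {Y} g => by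
      rw [glv_add, hΦ, hΦ, hΦ]
      exact map_mul (gHom E g) m.toMul.val m'.toMul.val
  refine AddGroup.fg_of_surjective (f := Ψ) fun χ => ?_
  obtain ⟨a, ha, hχ⟩ := exists_glob E χ
  refine ⟨Additive.ofMul ⟨a, isGroupLikeElem_of_isGL ha⟩, char_ext fun {Y} g => ?_⟩
  rw [hχ]
  exact hΦ ⟨a, isGroupLikeElem_of_isGL ha⟩ g

end

section Pair

variable {A B : Type u} [CommRing A] [HopfAlgebra k A] [CommRing B] [HopfAlgebra k B]
  {G H : Over (Spec (CommRingCat.of k))} [GrpObj G] [IsCommMonObj G] [GrpObj H] [IsCommMonObj H]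
  (EG : Coord A G) (EH : Coord B H) (i : H ⟶ G) [IsMonHom i] [IsClosedImmersion i.left]

include EG EH in
theorem exists_map : ∃ f : A →ₐ[k] B, IsConvHom f ∧ Function.Surjective f ∧
    ∀ {Y : Over (Spec (CommRingCat.of k))} (g : Y ⟶ H), gHom EG (g ≫ i) = (gHom EH g).comp f := by
  obtain ⟨f, hf⟩ := exists_Omap (EH.iso.hom ≫ i ≫ EG.iso.inv)
  have hi : ∀ (C : Type u) [CommRing C] [Algebra k C] (y : B →ₐ[k] C), pt EH y ≫ i = pt EG (y.comp f) := by
    intro C _ _ y
    rw [pt, pt, ← Omap_comp f y, hf]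
    simp
  refine ⟨f, fun C _ _ x y => pt_injective EG ?_, fun b => ?_, fun {Y} g => ?_⟩
  · rw [← hi, pt_mul, MonObj.mul_comp, hi, hi, ← pt_mul EG (toConv (x.ofConv.comp f)) (toConv (y.ofConv.comp f))]
  · haveI : IsClosedImmersion (Omap f).left := by
      rw [hf]
      haveI : IsIso EH.iso.hom.left := inferInstanceAs (IsIso ((Over.forget _).map EH.iso.hom))
      haveI : IsIso EG.iso.inv.left := inferInstanceAs (IsIso ((Over.forget _).map EG.iso.inv))
      rw [Over.comp_left, Over.comp_left]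
      infer_instance
    haveI : IsAffine (O k A).left := inferInstanceAs (IsAffine (Spec (CommRingCat.of A)))
    obtain ⟨z, hz⟩ := (IsClosedImmersion.isAffine_surjective_of_isAffine (Omap f).left).2 (fn k B b)
    obtain ⟨a, rfl⟩ := fn_bijective.2 z
    exact ⟨a, fn_bijective.1 ((fn_map f a).symm.trans hz)⟩
  · conv_lhs => rw [← rmap_gHom EH g, Category.assoc, hi]
    exact gHom_rmap EG _

end Pair

variable {H G : Over (Spec (CommRingCat.of k))} [GrpObj H] [IsCommMonObj H] [GrpObj G] [IsCommMonObj G]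
  [IsAffine H.left] [IsAffine G.left] (i : H ⟶ G) [IsMonHom i] [IsClosedImmersion i.left]

theorem glv_leftComp (χ : CGrpSh.pts Scheme.fppfPrecoverage G ⟶
      CGrpSh2.Gm Scheme.fppfPrecoverage (Spec (CommRingCat.of k)))
    {Y : Over (Spec (CommRingCat.of k))} (g : Y ⟶ H) :
    glv (Preadditive.leftComp (CGrpSh2.Gm Scheme.fppfPrecoverage (Spec (CommRingCat.of k)))
      (CGrpSh.ptsMap Scheme.fppfPrecoverage i) χ) g = glv χ (g ≫ i) := rfl

theorem surjective_restrict [IsAlgClosed k] :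
    Function.Surjective (Preadditive.leftComp (CGrpSh2.Gm Scheme.fppfPrecoverage (Spec (CommRingCat.of k)))
      (CGrpSh.ptsMap Scheme.fppfPrecoverage i)) := by
  obtain ⟨A, _, _, _, ⟨EG⟩⟩ := exists_coord G
  obtain ⟨B, _, _, _, ⟨EH⟩⟩ := exists_coord H
  obtain ⟨f, hf, hsurj, hcomp⟩ := exists_map EG EH i
  intro χ
  obtain ⟨b, hb, hχ⟩ := exists_glob EH χ
  obtain ⟨a, ha, rfl⟩ := exists_lift hf hsurj hb
  obtain ⟨ξ, hξ⟩ := exists_of_isGL EG ha
  exact ⟨ξ, char_ext fun {Y} g => by rw [glv_leftComp, hξ, hχ, hcomp]; rfl⟩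

theorem finiteIndex_restrict [LocallyOfFiniteType H.hom] :
    (Preadditive.leftComp (CGrpSh2.Gm Scheme.fppfPrecoverage (Spec (CommRingCat.of k)))
      (CGrpSh.ptsMap Scheme.fppfPrecoverage i)).range.FiniteIndex := by
  obtain ⟨A, _, _, _, ⟨EG⟩⟩ := exists_coord G
  obtain ⟨B, _, _, _, ⟨EH⟩⟩ := exists_coord H
  obtain ⟨f, hf, hsurj, hcomp⟩ := exists_map EG EH i
  haveI : Algebra.FiniteType k B := by
    haveI : IsIso EH.iso.hom.left := inferInstanceAs (IsIso ((Over.forget _).map EH.iso.hom))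
    have h : LocallyOfFiniteType (O k B).hom := by
      rw [← Over.w EH.iso.hom]
      infer_instance
    exact RingHom.finiteType_algebraMap.1 ((HasRingHomProperty.Spec_iff (P := @LocallyOfFiniteType)).1 h)
  haveI : IsNoetherianRing B := Algebra.FiniteType.isNoetherianRing k B
  haveI := fg_char EH
  set R := (Preadditive.leftComp (CGrpSh2.Gm Scheme.fppfPrecoverage (Spec (CommRingCat.of k)))
      (CGrpSh.ptsMap Scheme.fppfPrecoverage i)).range
  haveI : AddGroup.FG ((CGrpSh.pts Scheme.fppfPrecoverage H ⟶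
      CGrpSh2.Gm Scheme.fppfPrecoverage (Spec (CommRingCat.of k))) ⧸ R) :=
    AddGroup.fg_of_surjective (f := QuotientAddGroup.mk' R) (QuotientAddGroup.mk'_surjective R)
  haveI : Finite ((CGrpSh.pts Scheme.fppfPrecoverage H ⟶
      CGrpSh2.Gm Scheme.fppfPrecoverage (Spec (CommRingCat.of k))) ⧸ R) := by
    refine AddCommGroup.finite_of_fg_isAddTorsion _ ?_
    refine isAddTorsion_iff_isTorsion_int.2 ?_
    intro q
    obtain ⟨χ, rfl⟩ := QuotientAddGroup.mk'_surjective R q
    obtain ⟨b, hb, hχ⟩ := exists_glob EH χ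
    obtain ⟨d, a, hd, ha, hab⟩ := exists_lift_pow hf hsurj hb
    obtain ⟨ξ, hξ⟩ := exists_of_isGL EG ha
    refine ⟨⟨(d : ℤ), mem_nonZeroDivisors_of_ne_zero (by exact_mod_cast hd.ne')⟩, ?_⟩
    show (d : ℤ) • QuotientAddGroup.mk' R χ = 0
    rw [natCast_zsmul, ← map_nsmul, QuotientAddGroup.mk'_apply, QuotientAddGroup.eq_zero_iff]
    refine ⟨ξ, char_ext fun {Y} g => ?_⟩
    rw [glv_leftComp, hξ, glv_nsmul, hχ, hcomp, AlgHom.comp_apply, hab, map_pow]
  exact AddSubgroup.finiteIndex_of_finite_quotient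

end Groth.Agent.GmDD
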