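import Groth.Agent.GmDD.Alg
import Groth.Agent.GaExt.DDMain
import Groth.Agent.FinHopf.GrpScheme
import Groth.Agent.WittUnip.Affine

/-!
The double dual of an affine commutative group over a field.
-/

set_option autoImplicit false
set_option backward.isDefEq.respectTransparency false
set_option backward.isDefEq.respectTransparency.types false
set_option linter.style.haveILetI false
set_option linter.unusedSectionVars false
set_option synthInstance.maxHeartbeats 400000

universe u

open CategoryTheory CategoryTheory.Limits AlgebraicGeometry Opposite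
open MonoidalCategory CartesianMonoidalCategory
open scoped MonObj TensorProduct
open WithConv
open Groth.Agent.GaExt Groth.Agent.MilnorMoore

noncomputable section

namespace Groth.Agent.GmDD

variable {k : Type u} [Field k]

/-- The functions on an object, as an algebra over the base. -/
def GA (Y : Over (Spec (CommRingCat.of k))) : Type u := Γ(Y.left, ⊤)

instance (Y : Over (Spec (CommRingCat.of k))) : CommRing (GA Y) := inferInstanceAs (CommRing Γ(Y.left, ⊤))

instance (Y : Over (Spec (CommRingCat.of k))) : Algebra k (GA Y) :=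
  (show k →+* GA Y from strOf Y).toAlgebra

/-- The canonical morphism to the spectrum of the functions. -/
def rmap (Y : Over (Spec (CommRingCat.of k))) : Y ⟶ O k (GA Y) :=
  toO (show GA Y →+* Γ(Y.left, ⊤) from RingHom.id _) rfl

theorem rmap_fn (Y : Over (Spec (CommRingCat.of k))) (a : GA Y) :
    ((rmap Y).left.appTop (fn k (GA Y) a) : Γ(Y.left, ⊤)) = a := toO_fn _ _ a

/-- Functions pulled back along a morphism to an affine object. -/
def pullA {R : Type u} [CommRing R] [Algebra k R] {Y : Over (Spec (CommRingCat.of k))} (c : Y ⟶ O k R) :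
    R →ₐ[k] GA Y :=
  { (show R →+* GA Y from c.left.appTop.hom.comp (fn k R)) with
    commutes' := fun r => RingHom.congr_fun (str_comp c) r }

theorem pullA_apply {R : Type u} [CommRing R] [Algebra k R] {Y : Over (Spec (CommRingCat.of k))} (c : Y ⟶ O k R)
    (r : R) : pullA c r = c.left.appTop (fn k R r) := rfl

theorem rmap_pullA {R : Type u} [CommRing R] [Algebra k R] {Y : Over (Spec (CommRingCat.of k))} (c : Y ⟶ O k R) :
    rmap Y ≫ Omap (pullA c) = c :=
  hom_ext_fn fun r => by
    rw [Over.comp_left, Scheme.Hom.comp_appTop, CommRingCat.comp_apply]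
    exact (congrArg (rmap Y).left.appTop (fn_map (pullA c) r)).trans (rmap_fn Y _)

theorem pullA_rmap {R : Type u} [CommRing R] [Algebra k R] {Y : Over (Spec (CommRingCat.of k))} (φ : R →ₐ[k] GA Y) :
    pullA (rmap Y ≫ Omap φ) = φ :=
  AlgHom.ext fun r => by
    rw [pullA_apply, Over.comp_left, Scheme.Hom.comp_appTop, CommRingCat.comp_apply]
    exact (congrArg (rmap Y).left.appTop (fn_map φ r)).trans (rmap_fn Y _)

/-- Restriction of functions. -/
def resA {Y Y' : Over (Spec (CommRingCat.of k))} (q : Y' ⟶ Y) : GA Y →ₐ[k] GA Y' :=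
  { (show GA Y →+* GA Y' from q.left.appTop.hom) with
    commutes' := fun r => by
      show q.left.appTop (Y.hom.appTop ((Scheme.ΓSpecIso (CommRingCat.of k)).inv r)) = Y'.hom.appTop _
      rw [← CommRingCat.comp_apply, ← Scheme.Hom.comp_appTop, Over.w q]
      rfl }

theorem pullA_comp {R : Type u} [CommRing R] [Algebra k R] {Y Y' : Over (Spec (CommRingCat.of k))} (q : Y' ⟶ Y)
    (c : Y ⟶ O k R) : pullA (q ≫ c) = (resA q).comp (pullA c) :=
  AlgHom.ext fun r => by
    rw [pullA_apply, Over.comp_left, Scheme.Hom.comp_appTop, CommRingCat.comp_apply]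
    rfl

theorem pullA_Omap {R S : Type u} [CommRing R] [Algebra k R] [CommRing S] [Algebra k S]
    {Y : Over (Spec (CommRingCat.of k))} (c : Y ⟶ O k S) (σ : R →ₐ[k] S) :
    pullA (c ≫ Omap σ) = (pullA c).comp σ :=
  AlgHom.ext fun r => by
    rw [pullA_apply, Over.comp_left, Scheme.Hom.comp_appTop, CommRingCat.comp_apply]
    exact congrArg c.left.appTop (fn_map σ r)

/-- Elements as functions, as an algebra map. -/
abbrev fnA (T : Type u) [CommRing T] [Algebra k T] : T →ₐ[k] GA (O k T) := pullA (𝟙 (O k T))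

theorem fnA_apply {T : Type u} [CommRing T] [Algebra k T] (t : T) : fnA (k := k) T t = fn k T t := by
  rw [pullA_apply]
  simp

theorem fnA_injective {T : Type u} [CommRing T] [Algebra k T] : Function.Injective (fnA (k := k) T) := fun a b h => by
  rw [fnA_apply, fnA_apply] at h
  exact fn_bijective.1 h

theorem pullA_Omap' {R S : Type u} [CommRing R] [Algebra k R] [CommRing S] [Algebra k S] (σ : R →ₐ[k] S) :
    pullA (Omap σ : O k S ⟶ O k R) = (fnA S).comp σ := by
  rw [fnA, ← pullA_Omap, Category.id_comp]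

section Group

variable {A : Type u} [CommRing A] [HopfAlgebra k A] {G : Over (Spec (CommRingCat.of k))} [GrpObj G]
  [IsCommMonObj G]

/-- A coordinate algebra of a group. -/
structure Coord (A : Type u) [CommRing A] [HopfAlgebra k A] (G : Over (Spec (CommRingCat.of k))) [GrpObj G] where
  /-- the isomorphism -/
  iso : O k A ≅ G
  mul : ∀ (C : Type u) [CommRing C] [Algebra k C] (x y : WithConv (A →ₐ[k] C)),
    Omap (x * y).ofConv ≫ iso.hom = (Omap x.ofConv ≫ iso.hom) * (Omap y.ofConv ≫ iso.hom)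

variable (E : Coord A G)

/-- The point of a map out of the coordinate algebra. -/
def pt {C : Type u} [CommRing C] [Algebra k C] (x : A →ₐ[k] C) : O k C ⟶ G := Omap x ≫ E.iso.hom

theorem Omap_pt {C D : Type u} [CommRing C] [Algebra k C] [CommRing D] [Algebra k D] (σ : C →ₐ[k] D)
    (x : A →ₐ[k] C) : Omap σ ≫ pt E x = pt E (σ.comp x) := by
  rw [pt, pt, ← Category.assoc, Omap_comp]

/-- The map out of the coordinate algebra of a point. -/
def gHom {Y : Over (Spec (CommRingCat.of k))} (g : Y ⟶ G) : A →ₐ[k] GA Y := pullA (g ≫ E.iso.inv)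

theorem rmap_gHom {Y : Over (Spec (CommRingCat.of k))} (g : Y ⟶ G) : rmap Y ≫ pt E (gHom E g) = g := by
  rw [pt, gHom, ← Category.assoc, rmap_pullA, Category.assoc, Iso.inv_hom_id, Category.comp_id]

theorem gHom_rmap {Y : Over (Spec (CommRingCat.of k))} (x : A →ₐ[k] GA Y) : gHom E (rmap Y ≫ pt E x) = x := by
  rw [gHom, pt, Category.assoc, Category.assoc, Iso.hom_inv_id, Category.comp_id, pullA_rmap]

theorem pt_mul {C : Type u} [CommRing C] [Algebra k C] (x y : WithConv (A →ₐ[k] C)) :
    pt E (x * y).ofConv = pt E x.ofConv * pt E y.ofConv := E.mul C x y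

theorem pt_one {C : Type u} [CommRing C] [Algebra k C] : pt E (1 : WithConv (A →ₐ[k] C)).ofConv = 1 := by
  have h := pt_mul E (1 : WithConv (A →ₐ[k] C)) 1
  rw [_root_.one_mul] at h
  exact mul_left_cancel (h.symm.trans (_root_.mul_one _).symm)

theorem gHom_mul {Y : Over (Spec (CommRingCat.of k))} (g h : Y ⟶ G) :
    gHom E (g * h) = (toConv (gHom E g) * toConv (gHom E h)).ofConv := by
  conv_lhs => rw [← rmap_gHom E g, ← rmap_gHom E h, ← MonObj.comp_mul]
  have e := pt_mul E (toConv (gHom E g)) (toConv (gHom E h))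
  simp only at e
  rw [← e, gHom_rmap]

theorem gHom_one {Y : Over (Spec (CommRingCat.of k))} :
    gHom E (1 : Y ⟶ G) = (1 : WithConv (A →ₐ[k] GA Y)).ofConv := by
  have h : (1 : Y ⟶ G) = rmap Y ≫ (1 : O k (GA Y) ⟶ G) := (MonObj.comp_one _).symm
  rw [h, ← pt_one E, gHom_rmap]

theorem gHom_comp {Y Y' : Over (Spec (CommRingCat.of k))} (q : Y' ⟶ Y) (g : Y ⟶ G) :
    gHom E (q ≫ g) = (resA q).comp (gHom E g) := by
  rw [gHom, gHom, Category.assoc, pullA_comp]

theorem gHom_pt {C : Type u} [CommRing C] [Algebra k C] (x : A →ₐ[k] C) : gHom E (pt E x) = (fnA C).comp x := by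
  rw [gHom, pt, Category.assoc, Iso.hom_inv_id, Category.comp_id, pullA_Omap']

variable {R : Type u} [CommRing R] [Algebra k R]

/-- The value of an element of `R ⊗ A` at a point. -/
def val (f : R ⊗[k] A) {Y : Over (Spec (CommRingCat.of k))} (c : Y ⟶ O k R) (g : Y ⟶ G) : GA Y :=
  at' (pullA c) (gHom E g) f

theorem comp_at' {T T' : Type u} [CommRing T] [Algebra k T] [CommRing T'] [Algebra k T'] (ψ : T →ₐ[k] T')
    (φ : R →ₐ[k] T) (x : A →ₐ[k] T) (f : R ⊗[k] A) : at' (ψ.comp φ) (ψ.comp x) f = ψ (at' φ x f) := by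
  induction f using TensorProduct.induction_on with
  | zero => simp
  | tmul r a => simp [at']
  | add p q hp hq => simp only [map_add, hp, hq]

theorem val_res (f : R ⊗[k] A) {Y Y' : Over (Spec (CommRingCat.of k))} (q : Y' ⟶ Y) (c : Y ⟶ O k R) (g : Y ⟶ G) :
    val E f (q ≫ c) (q ≫ g) = resA q (val E f c g) := by
  rw [val, val, pullA_comp, gHom_comp, comp_at']

theorem val_pt (f : R ⊗[k] A) {T : Type u} [CommRing T] [Algebra k T] (φ : R →ₐ[k] T) (x : A →ₐ[k] T) :
    val E f (Omap φ) (pt E x) = fn k T (at' φ x f) := by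
  rw [val, pullA_Omap', gHom_pt, comp_at', fnA_apply]

theorem val_mul {f : R ⊗[k] A} (hf : IsGL f) {Y : Over (Spec (CommRingCat.of k))} (c : Y ⟶ O k R) (g h : Y ⟶ G) :
    val E f c (g * h) = val E f c g * val E f c h := by
  rw [val, gHom_mul]
  exact hf.mul _ _ _ _

theorem val_one {f : R ⊗[k] A} (hf : IsGL f) {Y : Over (Spec (CommRingCat.of k))} (c : Y ⟶ O k R) :
    val E f c (1 : Y ⟶ G) = 1 := by
  rw [val, gHom_one]
  exact hf.one _ _

/-- The unit of a group-like element at a point. -/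
def valU (f : R ⊗[k] A) (hf : IsGL f) {Y : Over (Spec (CommRingCat.of k))} (c : Y ⟶ O k R) (g : Y ⟶ G) :
    (Γ(Y.left, ⊤))ˣ :=
  Units.mkOfMulEqOne (val E f c g) (val E f c g⁻¹) (by
    exact ((val_mul E hf c g g⁻¹).symm.trans (by rw [mul_inv_cancel]; exact val_one E hf c)))

/-- A point as a section. -/
def gS {Y : Over (Spec (CommRingCat.of k))} (g : Y ⟶ G) :
    BigSite.sect Scheme.fppfPrecoverage (CGrpSh.pts Scheme.fppfPrecoverage G) Y :=
  ULift.up (Additive.ofMul g)

/-- The character of a group-like element. -/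
def charHom (f : R ⊗[k] A) (hf : IsGL f) :
    (CGrpSh.pts Scheme.fppfPrecoverage G).over (O k R) ⟶
      (CGrpSh2.Gm Scheme.fppfPrecoverage (Spec (CommRingCat.of k))).over (O k R) :=
  ⟨{
    app := fun V => AddCommGrpCat.ofHom (X := ULift.{u + 1} (Additive (V.unop.left ⟶ G)))
      (Y := BigSite.sect Scheme.fppfPrecoverage (CGrpSh2.Gm Scheme.fppfPrecoverage (Spec (CommRingCat.of k)))
        V.unop.left) (AddMonoidHom.mk'
      (fun q => ofUnit (W := V.unop.left) (valU E f hf V.unop.hom (Additive.toMul q.down)))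
      (fun q q' => uu_injective (by
        rw [uu_add, uu_ofUnit, uu_ofUnit, uu_ofUnit]
        exact val_mul E hf V.unop.hom (Additive.toMul q.down) (Additive.toMul q'.down))))
    naturality := fun V V' t => AddCommGrpCat.ext fun q => uu_injective (by
      show (uu (ofUnit (W := V'.unop.left) (valU E f hf V'.unop.hom (t.unop.left ≫ Additive.toMul q.down))) :
          Γ(V'.unop.left.left, ⊤)) =
        uu (GaExt.res (CGrpSh2.Gm Scheme.fppfPrecoverage (Spec (CommRingCat.of k))) t.unop.left
          (ofUnit (W := V.unop.left) (valU E f hf V.unop.hom (Additive.toMul q.down))))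
      rw [uu_res, uu_ofUnit, uu_ofUnit]
      show val E f V'.unop.hom (t.unop.left ≫ Additive.toMul q.down) = resA t.unop.left (val E f V.unop.hom _)
      rw [← val_res, Over.w t.unop]) }⟩

theorem charHom_app (f : R ⊗[k] A) (hf : IsGL f) {Y : Over (Spec (CommRingCat.of k))} (c : Y ⟶ O k R) (g : Y ⟶ G) :
    (uu (ov (charHom E f hf) c (gS g)) : Γ(Y.left, ⊤)) = val E f c g :=
  congrArg Units.val (uu_ofUnit (W := Y) _)

theorem gS_surjective {Y : Over (Spec (CommRingCat.of k))}
    (s : BigSite.sect Scheme.fppfPrecoverage (CGrpSh.pts Scheme.fppfPrecoverage G) Y) : ∃ g, gS g = s := by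
  obtain ⟨e⟩ := s
  exact ⟨Additive.toMul e, rfl⟩

theorem exists_char (d : (CGrpSh.pts Scheme.fppfPrecoverage G).over (O k R) ⟶
      (CGrpSh2.Gm Scheme.fppfPrecoverage (Spec (CommRingCat.of k))).over (O k R)) :
    ∃ (f : R ⊗[k] A) (hf : IsGL f), d = charHom E f hf := by
  let c0 : O k (R ⊗[k] A) ⟶ O k R := Omap Algebra.TensorProduct.includeLeft
  let g0 : O k (R ⊗[k] A) ⟶ G := pt E Algebra.TensorProduct.includeRight
  obtain ⟨f, hf⟩ := (fn_bijective (R := k) (A := R ⊗[k] A)).2
    (uu (ov d c0 (gS g0)) : Γ((O k (R ⊗[k] A)).left, ⊤))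
  have hval : ∀ {Y : Over (Spec (CommRingCat.of k))} (c : Y ⟶ O k R) (g : Y ⟶ G),
      (uu (ov d c (gS g)) : Γ(Y.left, ⊤)) = val E f c g := fun {Y} c g => by
    let l : Y ⟶ O k (R ⊗[k] A) := rmap Y ≫ Omap (at' (pullA c) (gHom E g))
    have hl : l ≫ c0 = c := by
      simp only [l, c0, Category.assoc, Omap_comp]
      refine Eq.trans ?_ (rmap_pullA c)
      refine congrArg (fun φ => rmap Y ≫ Omap φ) (AlgHom.ext fun r => ?_)
      simp [at']
    have hg : l ≫ g0 = g := by
      simp only [l, g0, Category.assoc, Omap_pt]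
      refine Eq.trans ?_ (rmap_gHom E g)
      refine congrArg (fun φ => rmap Y ≫ pt E φ) (AlgHom.ext fun r => ?_)
      simp [at']
    have h := over_app_res d l c0 (gS g0)
    rw [show GaExt.res (CGrpSh.pts Scheme.fppfPrecoverage G) l (gS g0) = gS g from
      congrArg gS hg, hl] at h
    rw [h, uu_res, ← hf]
    exact (congrArg l.left.appTop (rfl : fn k (R ⊗[k] A) f = fn k (R ⊗[k] A) f)).trans
      (AlgHom.congr_fun (pullA_rmap (at' (pullA c) (gHom E g))) f)
  have hGL : IsGL f := by
    refine ⟨fun T _ _ φ => ?_, fun T _ _ φ x y => ?_⟩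
    · have h := hval (Omap φ) (pt E (1 : WithConv (A →ₐ[k] T)).ofConv)
      rw [show gS (pt E (1 : WithConv (A →ₐ[k] T)).ofConv) = 0 from congrArg gS (pt_one E), map_zero, uu_zero,
        val_pt] at h
      exact fn_bijective.1 (h.symm.trans (map_one _).symm)
    · have h := hval (Omap φ) (pt E (x * y).ofConv)
      rw [show gS (pt E (x * y).ofConv) = gS (pt E x.ofConv) + gS (pt E y.ofConv) from congrArg gS (pt_mul E x y),
        map_add, uu_add, hval, hval, val_pt, val_pt, val_pt] at h
      exact fn_bijective.1 ((map_mul _ _ _).trans h).symm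
  refine ⟨f, hGL, over_hom_ext fun {Y} c s => ?_⟩
  obtain ⟨g, rfl⟩ := gS_surjective s
  exact uu_injective ((hval c g).trans (charHom_app E f hGL c g).symm)

theorem charHom_one : charHom E (1 : R ⊗[k] A) isGL_one = 0 :=
  over_hom_ext fun {Y} c s => by
    obtain ⟨g, rfl⟩ := gS_surjective s
    exact uu_injective ((charHom_app E _ _ c g).trans ((map_one (at' (pullA c) (gHom E g))).trans uu_zero.symm))

theorem charHom_mul {f g : R ⊗[k] A} (hf : IsGL f) (hg : IsGL g) :
    charHom E (f * g) (hf.mul' hg) = charHom E f hf + charHom E g hg :=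
  over_hom_ext fun {Y} c s => by
    obtain ⟨q, rfl⟩ := gS_surjective s
    refine uu_injective ((charHom_app E _ _ c q).trans ?_)
    show _ = (uu (ov (charHom E f hf) c (gS q) + ov (charHom E g hg) c (gS q)) : Γ(Y.left, ⊤))
    rw [uu_add, charHom_app, charHom_app]
    exact map_mul (at' (pullA c) (gHom E q)) f g

theorem charHom_map {S : Type u} [CommRing S] [Algebra k S] (σ : R →ₐ[k] S) {f : R ⊗[k] A} (hf : IsGL f) :
    (CGrpSh2.dualSh Scheme.fppfPrecoverage (CGrpSh.pts Scheme.fppfPrecoverage G)).obj.map (Omap σ).op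
      (charHom E f hf) = charHom E (bc σ f) (hf.map σ) :=
  over_hom_ext fun {Y} c s => by
    obtain ⟨q, rfl⟩ := gS_surjective s
    refine uu_injective ?_
    refine (charHom_app E f hf (c ≫ Omap σ) q).trans (Eq.trans ?_ (charHom_app E _ _ c q).symm)
    rw [val, val, at'_bc, pullA_Omap]

/-- The values of a morphism out of the dual at group-like elements. -/
def chiVal {R₀ : Type u} [CommRing R₀] [Algebra k R₀]
    (χ : (CGrpSh2.dualSh Scheme.fppfPrecoverage (CGrpSh.pts Scheme.fppfPrecoverage G)).over (O k R₀) ⟶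
      (CGrpSh2.Gm Scheme.fppfPrecoverage (Spec (CommRingCat.of k))).over (O k R₀))
    (R : Type u) [CommRing R] [Algebra k R] (i : R₀ →ₐ[k] R) (f : R ⊗[k] A) : R :=
  open Classical in
  if hf : IsGL f then (RingEquiv.ofBijective (fn k R) (fn_bijective (R := k) (A := R))).symm
    (uu (ov χ (Omap i) (charHom E f hf)) : Γ((O k R).left, ⊤)) else 1

variable {R₀ : Type u} [CommRing R₀] [Algebra k R₀]
  (χ : (CGrpSh2.dualSh Scheme.fppfPrecoverage (CGrpSh.pts Scheme.fppfPrecoverage G)).over (O k R₀) ⟶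
      (CGrpSh2.Gm Scheme.fppfPrecoverage (Spec (CommRingCat.of k))).over (O k R₀))

theorem fn_chiVal (i : R₀ →ₐ[k] R) {f : R ⊗[k] A} (hf : IsGL f) :
    fn k R (chiVal E χ R i f) = (uu (ov χ (Omap i) (charHom E f hf)) : Γ((O k R).left, ⊤)) := by
  rw [chiVal, dif_pos hf]
  exact (RingEquiv.ofBijective (fn k R) (fn_bijective (R := k) (A := R))).apply_symm_apply _

theorem isVal_chiVal : IsVal (chiVal E χ) where
  one R _ _ i := fn_bijective.1 (by
    rw [fn_chiVal E χ i isGL_one, charHom_one, map_zero, uu_zero, map_one])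
  mul R _ _ i f g hf hg := fn_bijective.1 (by
    rw [fn_chiVal E χ i (hf.mul' hg), charHom_mul E hf hg, map_add, uu_add, map_mul, fn_chiVal E χ i hf,
      fn_chiVal E χ i hg])
  nat R S _ _ _ _ σ i f hf := fn_bijective.1 (by
    rw [fn_chiVal E χ _ (hf.map σ), ← charHom_map E σ hf, ← Omap_comp i σ]
    refine (congrArg (fun s => (uu s : Γ((O k S).left, ⊤)))
      (over_app_res χ (Omap σ) (Omap i) (charHom E f hf))).trans ?_
    rw [uu_res, ← fn_chiVal E χ i hf]
    exact fn_map σ _)

theorem eval_bidual (x : A →ₐ[k] R₀) (i : R₀ →ₐ[k] R) {f : R ⊗[k] A} (hf : IsGL f) :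
    (uu (ov (HomSh.evalSect (QuotSh.J Scheme.fppfPrecoverage (Spec (CommRingCat.of k)))
      (M := CGrpSh2.Gm Scheme.fppfPrecoverage (Spec (CommRingCat.of k))) (gS (pt E x))) (Omap i)
      (charHom E f hf)) : Γ((O k R).left, ⊤)) = fn k R (at' (AlgHom.id k R) (i.comp x) f) := by
  refine (charHom_app E f hf (𝟙 (O k R)) (Omap i ≫ pt E x)).trans ?_
  rw [Omap_pt, ← Omap_id, val_pt]

variable [Coalgebra.IsCocomm k A]

include E in
theorem bidual_bijective :
    Function.Bijective ((CGrpSh2.toDoubleDual Scheme.fppfPrecoverage (CGrpSh.pts Scheme.fppfPrecoverage G)).hom.app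
      (op (O k R₀))) := by
  have hlift : ∀ {R S : Type u} [CommRing R] [Algebra k R] [CommRing S] [Algebra k S] (c : O k S ⟶ O k R),
      ∃ σ : R →ₐ[k] S, Omap σ = c := fun {R S} _ _ _ _ c => by
    let σ : R →ₐ[k] S :=
      { (RingEquiv.ofBijective (fn k S) fn_bijective).symm.toRingHom.comp (pullA c).toRingHom with
        commutes' := fun r => fn_bijective.1 (by
          refine ((RingEquiv.ofBijective (fn k S) fn_bijective).apply_symm_apply _).trans ?_
          show pullA c (algebraMap k R r) = _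
          rw [AlgHom.commutes, ← fnA_apply, AlgHom.commutes]) }
    exact ⟨σ, hom_ext_fn fun a => (fn_map σ a).trans
      ((RingEquiv.ofBijective (fn k S) fn_bijective).apply_symm_apply _)⟩
  have hsurjPt : ∀ s, ∃ x : A →ₐ[k] R₀, gS (pt E x) = s := fun s => by
    obtain ⟨g, rfl⟩ := gS_surjective s
    obtain ⟨x, hx⟩ := hlift (g ≫ E.iso.inv)
    exact ⟨x, congrArg gS (by rw [pt, hx, Category.assoc, Iso.inv_hom_id, Category.comp_id])⟩
  refine ⟨fun s t h => ?_, fun χ => ?_⟩
  · obtain ⟨x, rfl⟩ := hsurjPt s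
    obtain ⟨y, rfl⟩ := hsurjPt t
    refine congrArg (fun z => gS (pt E z)) (point_ext fun C => (fn_bijective (R := k)).1 ?_)
    rw [← eval_bidual E x _ (isGL_fC C), ← eval_bidual E y _ (isGL_fC C)]
    have h' : HomSh.evalSect (QuotSh.J Scheme.fppfPrecoverage (Spec (CommRingCat.of k)))
        (M := CGrpSh2.Gm Scheme.fppfPrecoverage (Spec (CommRingCat.of k))) (gS (pt E x)) =
      HomSh.evalSect (QuotSh.J Scheme.fppfPrecoverage (Spec (CommRingCat.of k)))
        (M := CGrpSh2.Gm Scheme.fppfPrecoverage (Spec (CommRingCat.of k))) (gS (pt E y)) := h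
    rw [h']
  · obtain ⟨x, hx⟩ := exists_point (isVal_chiVal E χ)
    refine ⟨gS (pt E x), over_hom_ext fun {W} c d => sect_ext_affine _ _ _ fun C _ j => ?_⟩
    letI : Algebra k C := (Spec.preimage (j ≫ W.hom)).hom.toAlgebra
    let j' : O k C ⟶ W := Over.homMk j (by
      show j ≫ W.hom = Spec.map (CommRingCat.ofHom (algebraMap k C))
      rw [show CommRingCat.ofHom (algebraMap k C) = Spec.preimage (j ≫ W.hom) from rfl, Spec.map_preimage])
    obtain ⟨i, hi⟩ : ∃ i : R₀ →ₐ[k] C, Omap i = j' ≫ c := hlift (j' ≫ c)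
    have key : ∀ θ θ' : (CGrpSh2.dualSh Scheme.fppfPrecoverage (CGrpSh.pts Scheme.fppfPrecoverage G)).over (O k R₀) ⟶
        (CGrpSh2.Gm Scheme.fppfPrecoverage (Spec (CommRingCat.of k))).over (O k R₀),
        (∀ d', ov θ (Omap i) d' = ov θ' (Omap i) d') → GaExt.res _ j' (ov θ c d) = GaExt.res _ j' (ov θ' c d) := by
      intro θ θ' hθ
      rw [← over_app_res, ← over_app_res, ← hi, hθ]
    have hres := key (HomSh.evalSect (QuotSh.J Scheme.fppfPrecoverage (Spec (CommRingCat.of k)))
        (M := CGrpSh2.Gm Scheme.fppfPrecoverage (Spec (CommRingCat.of k))) (gS (pt E x))) χ fun d' => by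
      obtain ⟨f, hf, rfl⟩ := exists_char E d'
      refine uu_injective ((eval_bidual E x i hf).trans ?_)
      rw [← hx C i f hf, fn_chiVal E χ i hf]
    let k' : Over.mk (j ≫ W.hom) ⟶ O k C := Over.homMk (𝟙 _) ((Category.id_comp _).trans (Over.w j').symm)
    rw [show (Over.homMk j : Over.mk (j ≫ W.hom) ⟶ W) = k' ≫ j' from
      Over.OverMorphism.ext (Category.id_comp j).symm, ← res_res, ← res_res]
    exact congrArg (GaExt.res _ k') hres

end Group

theorem Omap_eq_mapMulEquiv {A C : Type u} [CommRing A] [HopfAlgebra k A] [CommRing C] [Algebra k C]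
    (z : WithConv (A →ₐ[k] C)) : Spec.mapMulEquiv (R := k) (S := A) (T := C) z = Omap z.ofConv :=
  Over.OverMorphism.ext rfl

/-- The coordinates given by an isomorphism of groups with the spectrum of a Hopf algebra. -/
def coordOfIso {A : Type u} [CommRing A] [HopfAlgebra k A] {G : Over (Spec (CommRingCat.of k))} [GrpObj G]
    (e : (Spec (CommRingCat.of A)).asOver (Spec (CommRingCat.of k)) ≅ G) [IsMonHom e.hom] : Coord A G where
  iso := e
  mul C _ _ x y := by
    rw [← Omap_eq_mapMulEquiv, ← Omap_eq_mapMulEquiv, ← Omap_eq_mapMulEquiv, map_mul]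
    exact MonObj.mul_comp _ _ e.hom

theorem exists_coord (G : Over (Spec (CommRingCat.of k))) [GrpObj G] [IsCommMonObj G] [IsAffine G.left] :
    ∃ (A : Type u) (_ : CommRing A) (_ : HopfAlgebra k A), Coalgebra.IsCocomm k A ∧ Nonempty (Coord A G) := by
  obtain ⟨A, iA, e, he⟩ := FinHopf.exists_hopf G
  haveI := he
  exact ⟨A, inferInstance, iA, WittUnip.isCocomm_of_iso (k := k) (A := A) e, ⟨coordOfIso (A := A) e⟩⟩

theorem bijective_over {A : Type u} [CommRing A] [HopfAlgebra k A] [Coalgebra.IsCocomm k A]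
    {G : Over (Spec (CommRingCat.of k))} [GrpObj G] [IsCommMonObj G] (E : Coord A G) {B : Type u} [CommRing B]
    (b : Spec (CommRingCat.of B) ⟶ Spec (CommRingCat.of k)) :
    Function.Bijective ((CGrpSh2.toDoubleDual Scheme.fppfPrecoverage (CGrpSh.pts Scheme.fppfPrecoverage G)).hom.app
      (op (Over.mk b))) := by
  letI : Algebra k B := (Spec.preimage b).hom.toAlgebra
  have hb : O k B = Over.mk b := by
    show Over.mk (Spec.map (Spec.preimage b)) = _
    rw [Spec.map_preimage]
  have h := bidual_bijective (R₀ := B) E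
  rw [hb] at h
  exact h

theorem isIso_toDoubleDual (G : Over (Spec (CommRingCat.of k))) [GrpObj G] [IsCommMonObj G] [IsAffine G.left] :
    IsIso (CGrpSh2.toDoubleDual Scheme.fppfPrecoverage (CGrpSh.pts Scheme.fppfPrecoverage G)) := by
  obtain ⟨A, _, _, _, ⟨E⟩⟩ := exists_coord G
  exact GaExt.isIso_of_affine _ fun {B} _ b => bijective_over E b

end Groth.Agent.GmDD
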